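import Groth.Agent.Lib.SkExt.Basic
import Groth.Agent.Lib.SkLift5.Basic
import Groth.Agent.Lib.CMBasics.Basic
import Groth.Agent.Lib.DepthKer.Basic
import Groth.Prelude.Def_CAlg
import Mathlib

/-!
# `(S_k)` and embedded primes of quotients by regular sequences
-/

set_option autoImplicit false
set_option linter.style.haveILetI false
universe u

open IsLocalRing RingTheory.Sequence TensorProduct

namespace GrothLib.SkAssPrimes

section Equivs

variable {A : Type u} [CommRing A] (S : Submonoid A) (M : Type u) [AddCommGroup M] [Module A M]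

theorem nonempty_quotSMulTop_localized (t : A) :
    Nonempty (QuotSMulTop (algebraMap A (Localization S) t) (LocalizedModule S M) ≃ₗ[Localization S]
      LocalizedModule S (QuotSMulTop t M)) := by
  refine ⟨(Submodule.Quotient.equiv _ _ (LocalizedModule.equivTensorProduct S M) ?_).trans
    ((QuotSMulTop.algebraMapTensorEquivTensorQuotSMulTop t M (Localization S)).trans
      (LocalizedModule.equivTensorProduct S (QuotSMulTop t M)).symm)⟩
  rw [Submodule.map_pointwise_smul, Submodule.map_top, LinearEquiv.range]

theorem nonempty_quot_localized (rs : List A) :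
    Nonempty ((LocalizedModule S M ⧸ (Ideal.ofList (rs.map (algebraMap A (Localization S))) •
        (⊤ : Submodule (Localization S) (LocalizedModule S M)))) ≃ₗ[Localization S]
      LocalizedModule S (M ⧸ (Ideal.ofList rs • (⊤ : Submodule A M)))) := by
  refine ⟨(Submodule.Quotient.equiv _ ((Ideal.ofList rs).map (algebraMap A (Localization S)) • ⊤)
    (LocalizedModule.equivTensorProduct S M) ?_).trans
      ((tensorQuotMapSMulEquivTensorQuot M (Localization S) (Ideal.ofList rs)).trans
        (LocalizedModule.equivTensorProduct S _).symm)⟩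
  rw [Submodule.map_smul'', Submodule.map_top, LinearEquiv.range, Ideal.map_ofList]

end Equivs

section Transfer

variable {A : Type u} [CommRing A] [IsNoetherianRing A]

/-- The condition at a prime of a localisation. -/
theorem skCond_localized (S : Submonoid A) (k : ℕ) (M : Type u) [AddCommGroup M] [Module A M] [Module.Finite A M]
    (Q : Ideal (Localization S)) [Q.IsPrime] :
    SkExt.SkCond k (LocalizedModule S M) Q ↔
      SkExt.SkCond k M (Q.comap (algebraMap A (Localization S))) := by
  let Rp := Localization S
  let T := Localization.AtPrime Q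
  let q := Q.comap (algebraMap A Rp)
  let Rq := Localization.AtPrime q
  let Mp := LocalizedModule S M
  let MQ := LocalizedModule Q.primeCompl Mp
  haveI : IsNoetherianRing Rp := IsLocalization.isNoetherianRing S _ inferInstance
  haveI : IsNoetherianRing T := IsLocalization.isNoetherianRing Q.primeCompl _ inferInstance
  haveI : IsNoetherianRing Rq := IsLocalization.isNoetherianRing q.primeCompl _ inferInstance
  haveI : IsLocalization.AtPrime T q :=
    IsLocalization.isLocalization_isLocalization_atPrime_isLocalization S T Q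
  haveI : Module.Finite Rp Mp := Module.Finite.of_isLocalizedModule S (LocalizedModule.mkLinearMap S M)
  haveI : Module.Finite T MQ := Module.Finite.of_isLocalizedModule Q.primeCompl (LocalizedModule.mkLinearMap Q.primeCompl Mp)
  haveI : Module.Finite Rq (LocalizedModule q.primeCompl M) :=
    Module.Finite.of_isLocalizedModule q.primeCompl (LocalizedModule.mkLinearMap q.primeCompl M)
  haveI : IsScalarTower A T MQ := IsScalarTower.of_algebraMap_smul fun r x => by
    rw [IsScalarTower.algebraMap_apply A Rp T, algebraMap_smul, algebraMap_smul]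
  let f : M →ₗ[A] MQ :=
    (LocalizedModule.mkLinearMap Q.primeCompl Mp).restrictScalars A ∘ₗ LocalizedModule.mkLinearMap S M
  haveI : IsLocalizedModule q.primeCompl f := by
    refine (isLocalizedModule_iff_isBaseChange q.primeCompl T f).2 ?_
    exact (IsLocalizedModule.isBaseChange S Rp _).comp (IsLocalizedModule.isBaseChange Q.primeCompl T _)
  let e : LocalizedModule q.primeCompl M ≃ₗ[A] MQ := IsLocalizedModule.iso q.primeCompl f
  let σ : Rq ≃ₐ[A] T := IsLocalization.algEquiv q.primeCompl _ _
  have he : ∀ (r : Rq) (x : LocalizedModule q.primeCompl M), e (r • x) = σ r • e x := fun r x => by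
    obtain ⟨a, s, rfl⟩ := IsLocalization.exists_mk'_eq q.primeCompl r
    apply ((IsLocalization.map_units T s).smul_left_cancel).1
    have h1 : algebraMap A Rq (s : A) * IsLocalization.mk' Rq a s = algebraMap A Rq a :=
      IsLocalization.mk'_spec' _ a s
    calc algebraMap A T s • e (IsLocalization.mk' Rq a s • x)
        = (s : A) • e (IsLocalization.mk' Rq a s • x) := algebraMap_smul _ _ _
      _ = e ((s : A) • IsLocalization.mk' Rq a s • x) := (e.map_smul _ _).symm
      _ = e (a • x) := by rw [← algebraMap_smul Rq (s : A) (IsLocalization.mk' Rq a s • x), smul_smul, h1,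
            algebraMap_smul]
      _ = a • e x := e.map_smul _ _
      _ = σ (algebraMap A Rq a) • e x := by rw [σ.commutes, algebraMap_smul]
      _ = _ := by rw [← h1, map_mul, σ.commutes, mul_smul]
  unfold SkExt.SkCond
  rw [← SkExt.supportDim_congr_semilinear σ.toRingEquiv e.toAddEquiv he,
    ← SkExt.depth_congr_semilinear σ.toRingEquiv e.toAddEquiv he]

end Transfer

section Local

variable {A : Type u} [CommRing A] [IsNoetherianRing A]

theorem depth_eq_zero_iff_mem (q : Ideal A) [q.IsPrime] (M : Type u) [AddCommGroup M] [Module A M]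
    [Module.Finite A M] :
    LocCoh.depth (Localization.AtPrime q) (LocalizedModule q.primeCompl M) = 0 ↔ q ∈ associatedPrimes A M := by
  haveI : IsNoetherianRing (Localization.AtPrime q) := IsLocalization.isNoetherianRing q.primeCompl _ inferInstance
  haveI : Module.Finite (Localization.AtPrime q) (LocalizedModule q.primeCompl M) :=
    Module.Finite.of_isLocalizedModule q.primeCompl (LocalizedModule.mkLinearMap q.primeCompl M)
  rw [CMBasics.depth_eq_zero_iff, ← Module.associatedPrimes.preimage_comap_associatedPrimes_eq_associatedPrimes_of_isLocalizedModule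
    q.primeCompl (Localization.AtPrime q) (LocalizedModule.mkLinearMap q.primeCompl M), Set.mem_preimage,
    ← Ideal.under_def, Localization.AtPrime.under_maximalIdeal]

theorem mem_support_of_mem_ass {M : Type u} [AddCommGroup M] [Module A M] [Module.Finite A M] {q : Ideal A}
    (hq : q ∈ associatedPrimes A M) : (⟨q, hq.isPrime⟩ : PrimeSpectrum A) ∈ Module.support A M :=
  Module.mem_support_iff_of_finite.2 (Submodule.annihilator_top.ge.trans (IsAssociatedPrime.annihilator_le hq))

theorem supportDim_quot_add_one {M : Type u} [AddCommGroup M] [Module A M] [Module.Finite A M] {t : A}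
    (q : Ideal A) [q.IsPrime] (ht : t ∈ q)
    (hreg : IsSMulRegular (LocalizedModule q.primeCompl M) (algebraMap A (Localization.AtPrime q) t)) :
    Module.supportDim (Localization.AtPrime q) (LocalizedModule q.primeCompl (QuotSMulTop t M)) + 1 =
      Module.supportDim (Localization.AtPrime q) (LocalizedModule q.primeCompl M) := by
  haveI : IsNoetherianRing (Localization.AtPrime q) := IsLocalization.isNoetherianRing q.primeCompl _ inferInstance
  haveI : Module.Finite (Localization.AtPrime q) (LocalizedModule q.primeCompl M) :=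
    Module.Finite.of_isLocalizedModule q.primeCompl (LocalizedModule.mkLinearMap q.primeCompl M)
  obtain ⟨e⟩ := nonempty_quotSMulTop_localized q.primeCompl M t
  rw [← Module.supportDim_eq_of_equiv e]
  exact Module.supportDim_quotSMulTop_succ_eq_supportDim hreg
    (by rw [← Localization.AtPrime.map_eq_maximalIdeal]; exact Ideal.mem_map_of_mem _ ht)

theorem depth_and_dim_of_ass (rs : List A) : ∀ (M : Type u) [AddCommGroup M] [Module A M] [Module.Finite A M],
    IsWeaklyRegular M rs → ∀ (p q : Ideal A) [q.IsPrime],
      p ∈ associatedPrimes A (M ⧸ (Ideal.ofList rs • (⊤ : Submodule A M))) →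
      q ∈ associatedPrimes A (M ⧸ (Ideal.ofList rs • (⊤ : Submodule A M))) → p < q →
      LocCoh.depth (Localization.AtPrime q) (LocalizedModule q.primeCompl M) = rs.length ∧
        ((rs.length + 1 : ℕ) : WithBot ℕ∞) ≤
          Module.supportDim (Localization.AtPrime q) (LocalizedModule q.primeCompl M) := by
  induction rs with
  | nil =>
    intro M _ _ _ _ p q _ hp hq hpq
    have e : (M ⧸ (Ideal.ofList ([] : List A) • (⊤ : Submodule A M))) ≃ₗ[A] M :=
      (Submodule.quotEquivOfEq _ ⊥ (by simp)).trans (Submodule.quotEquivOfEqBot ⊥ rfl)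
    rw [LinearEquiv.AssociatedPrimes.eq e] at hp hq
    refine ⟨by rw [(depth_eq_zero_iff_mem q M).2 hq]; rfl, ?_⟩
    haveI := hp.isPrime
    refine le_trans ?_ (SkLift5.supportDim_localized_strict hpq (mem_support_of_mem_ass hp))
    rw [SkLift5.supportDim_localized_eq_height p (mem_support_of_mem_ass hp)]
    rw [List.length_nil, zero_add, Nat.cast_one, show (1 : WithBot ℕ∞) = ((1 : ℕ∞) : WithBot ℕ∞) from rfl, ← WithBot.coe_add, WithBot.coe_le_coe]
    exact le_add_self
  | cons t rs ih =>
    intro M _ _ _ hreg p q _ hp hq hpq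
    obtain ⟨ht, hrs⟩ := (isWeaklyRegular_cons_iff M t rs).1 hreg
    have e := Submodule.quotOfListConsSMulTopEquivQuotSMulTopInner M t rs
    have htq : t ∈ q := by
      refine (Submodule.annihilator_top.ge.trans (IsAssociatedPrime.annihilator_le hq)) (Module.mem_annihilator.2 fun x => ?_)
      obtain ⟨m, rfl⟩ := Submodule.Quotient.mk_surjective _ x
      rw [← Submodule.Quotient.mk_smul, Submodule.Quotient.mk_eq_zero]
      exact Submodule.smul_mem_smul (Ideal.subset_span (by simp)) trivial
    rw [LinearEquiv.AssociatedPrimes.eq e] at hp hq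
    obtain ⟨h1, h2⟩ := ih (QuotSMulTop t M) hrs p q hp hq hpq
    refine ⟨?_, ?_⟩
    · rw [← SkLift5.depth_quotSMulTop_add_one ht q htq, h1]
      simp
    · rw [← supportDim_quot_add_one q htq (SkLift5.isSMulRegular_localized ht q), List.length_cons]
      exact le_trans (le_of_eq (by push_cast; rfl)) (add_le_add h2 le_rfl)

/-- One implication. -/
theorem eq_of_hasSk {k : ℕ} (M : Type u) [AddCommGroup M] [Module A M] [Module.Finite A M]
    (h : ∀ (q : Ideal A) [q.IsPrime], SkExt.SkCond k M q) (rs : List A) (hlen : rs.length < k)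
    (hreg : IsWeaklyRegular M rs) {p q : Ideal A}
    (hp : p ∈ associatedPrimes A (M ⧸ (Ideal.ofList rs • (⊤ : Submodule A M))))
    (hq : q ∈ associatedPrimes A (M ⧸ (Ideal.ofList rs • (⊤ : Submodule A M)))) (hpq : p ≤ q) : p = q := by
  by_contra hne
  haveI := hq.isPrime
  obtain ⟨h1, h2⟩ := depth_and_dim_of_ass rs M hreg p q hp hq (lt_of_le_of_ne hpq hne)
  have h3 := h q
  unfold SkExt.SkCond at h3
  rw [h1] at h3
  have h4 : ((rs.length + 1 : ℕ) : WithBot ℕ∞) ≤ ((rs.length : ℕ∞) : WithBot ℕ∞) :=
    le_trans (le_min (by exact_mod_cast hlen) h2) h3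
  exact absurd (Nat.cast_le.1 (WithBot.coe_le_coe.1 h4 : ((rs.length + 1 : ℕ) : ℕ∞) ≤ (rs.length : ℕ∞))) (by omega)

/-- A regular element with a prescribed neighbourhood. -/
theorem exists_regular {M : Type u} [AddCommGroup M] [Module A M] [Module.Finite A M] (q : Ideal A) [q.IsPrime]
    (hq : q ∉ associatedPrimes A M) : ∃ t ∈ q, ∃ g ∉ q,
      IsSMulRegular (LocalizedModule q.primeCompl M) (algebraMap A (Localization.AtPrime q) t) ∧
      ∀ g' : A, g ∣ g' → IsSMulRegular (LocalizedModule (Submonoid.powers g') M)
        (algebraMap A (Localization (Submonoid.powers g')) t) := by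
  classical
  haveI : IsNoetherianRing (Localization.AtPrime q) := IsLocalization.isNoetherianRing q.primeCompl _ inferInstance
  have hfin : (associatedPrimes A M).Finite := associatedPrimes.finite A M
  let P := hfin.toFinset.filter fun p => p ≤ q
  obtain ⟨t, htq, htP⟩ : ∃ t ∈ q, ∀ p ∈ P, t ∉ p := by
    by_contra! hcon
    have hsub : (q : Set A) ⊆ ⋃ p ∈ (P : Set (Ideal A)), (id p : Ideal A) := fun t ht => by
      obtain ⟨p, hp, htp⟩ := hcon t ht
      exact Set.mem_iUnion₂.2 ⟨p, hp, htp⟩
    obtain ⟨p, hp, hqp⟩ := (Ideal.subset_union_prime ⊤ ⊤ (fun p hp _ _ =>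
      (hfin.mem_toFinset.1 (Finset.mem_filter.1 hp).1).isPrime)).1 hsub
    rw [Finset.mem_filter] at hp
    exact hq (le_antisymm hqp hp.2 ▸ hfin.mem_toFinset.1 hp.1)
  have hkill : ∀ m : M, t • m = 0 → ∃ s : A, s ∉ q ∧ s • m = 0 := by
    intro m hm
    by_contra! hcon
    have hne : LocalizedModule.mk m (1 : q.primeCompl) ≠ 0 := fun h0 => by
      rw [← LocalizedModule.zero_mk 1, LocalizedModule.mk_eq] at h0
      obtain ⟨c, hc⟩ := h0
      exact hcon c c.2 (by simpa [Submonoid.smul_def] using hc)
    have hmem : algebraMap A (Localization.AtPrime q) t ∈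
        ⋃ P ∈ associatedPrimes (Localization.AtPrime q) (LocalizedModule q.primeCompl M), (P : Set (Localization.AtPrime q)) := by
      rw [biUnion_associatedPrimes_eq_compl_regular]
      intro hreg
      exact hne (hreg.right_eq_zero_of_smul (by rw [algebraMap_smul, LocalizedModule.smul'_mk, hm, LocalizedModule.zero_mk]))
    obtain ⟨Q, hQ, htQ⟩ := Set.mem_iUnion₂.1 hmem
    rw [← Module.associatedPrimes.preimage_comap_associatedPrimes_eq_associatedPrimes_of_isLocalizedModule
      q.primeCompl (Localization.AtPrime q) (LocalizedModule.mkLinearMap q.primeCompl M)] at hQ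
    refine htP _ (Finset.mem_filter.2 ⟨hfin.mem_toFinset.2 hQ, fun x hx => ?_⟩) htQ
    by_contra hxq
    exact hQ.isPrime.ne_top (by
      rw [Ideal.eq_top_of_isUnit_mem Q (Ideal.mem_comap.1 hx) (IsLocalization.map_units _ (⟨x, hxq⟩ : q.primeCompl)),
        Ideal.comap_top])
  obtain ⟨gen, hgen⟩ := (IsNoetherian.noetherian (LinearMap.ker (DistribSMul.toLinearMap A M t)))
  choose! s hs hsm using fun m (hm : m ∈ gen) =>
    hkill m (LinearMap.mem_ker.1 (hgen.le (Submodule.subset_span hm)))
  refine ⟨t, htq, ∏ m ∈ gen, s m, (q.primeCompl).prod_mem (fun m hm => hs m hm), ?_, fun g' hg' => ?_⟩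
  · rw [isSMulRegular_iff_right_eq_zero_of_smul]
    intro z hz
    induction z with
    | h m u =>
      rw [algebraMap_smul, LocalizedModule.smul'_mk, ← LocalizedModule.zero_mk 1, LocalizedModule.mk_eq] at hz
      obtain ⟨c, hc⟩ := hz
      simp only [one_smul, smul_zero, Submonoid.smul_def] at hc
      obtain ⟨d, hd, hdm⟩ := hkill ((c : A) • m) (by rw [smul_comm]; exact hc)
      rw [← LocalizedModule.zero_mk 1, LocalizedModule.mk_eq]
      exact ⟨⟨d * c, q.primeCompl.mul_mem hd c.2⟩, by simpa [Submonoid.smul_def, mul_smul] using hdm⟩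
  · have hK : ∀ m : M, t • m = 0 → g' • m = 0 := by
      intro m hm
      obtain ⟨v, rfl⟩ := hg'
      have hm' : m ∈ Submodule.span A (gen : Set M) := hgen.ge (LinearMap.mem_ker.2 hm)
      have : (∏ m ∈ gen, s m) • m = 0 := by
        have hle : Submodule.span A (gen : Set M) ≤
            LinearMap.ker (DistribSMul.toLinearMap A M (∏ m ∈ gen, s m)) := Submodule.span_le.2 fun y hy => by
          show (∏ m ∈ gen, s m) • y = 0
          rw [← Finset.prod_erase_mul _ _ hy, mul_smul, hsm y hy, smul_zero]
        exact hle hm'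
      rw [mul_comm, mul_smul, this, smul_zero]
    rw [isSMulRegular_iff_right_eq_zero_of_smul]
    intro z hz
    induction z with
    | h m u =>
      rw [algebraMap_smul, LocalizedModule.smul'_mk, ← LocalizedModule.zero_mk 1, LocalizedModule.mk_eq] at hz
      obtain ⟨c, hc⟩ := hz
      simp only [one_smul, smul_zero, Submonoid.smul_def] at hc
      rw [← LocalizedModule.zero_mk 1, LocalizedModule.mk_eq]
      refine ⟨⟨g' * c, Submonoid.mul_mem _ (Submonoid.mem_powers g') c.2⟩, ?_⟩
      simp only [one_smul, smul_zero, Submonoid.smul_def, mul_smul]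
      exact hK _ (by rw [smul_comm]; exact hc)

/-- A regular sequence witnessing the depth, on a neighbourhood. -/
theorem exists_sequence (q : Ideal A) [q.IsPrime] : ∀ (d : ℕ) (M : Type u) [AddCommGroup M] [Module A M]
    [Module.Finite A M],
    LocCoh.depth (Localization.AtPrime q) (LocalizedModule q.primeCompl M) = d →
    ((d + 1 : ℕ) : WithBot ℕ∞) ≤ Module.supportDim (Localization.AtPrime q) (LocalizedModule q.primeCompl M) →
    ∃ g ∉ q, ∃ rs : List A, rs.length = d ∧
      (∀ g' : A, g ∣ g' → IsWeaklyRegular (LocalizedModule (Submonoid.powers g') M)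
        (rs.map (algebraMap A (Localization (Submonoid.powers g'))))) ∧
      q ∈ associatedPrimes A (M ⧸ (Ideal.ofList rs • (⊤ : Submodule A M))) ∧
      ∃ p ∈ associatedPrimes A (M ⧸ (Ideal.ofList rs • (⊤ : Submodule A M))), p < q := by
  intro d
  induction d with
  | zero =>
    intro M _ _ _ hd hdim
    have e : M ≃ₗ[A] (M ⧸ (Ideal.ofList ([] : List A) • (⊤ : Submodule A M))) :=
      ((Submodule.quotEquivOfEq _ ⊥ (by simp)).trans (Submodule.quotEquivOfEqBot ⊥ rfl)).symm
    have hq : q ∈ associatedPrimes A M := (depth_eq_zero_iff_mem q M).1 (by simpa using hd)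
    refine ⟨1, fun h => Ideal.IsPrime.ne_top' (q.eq_top_iff_one.2 h), [], rfl, fun g' _ => IsWeaklyRegular.nil _ _, ?_⟩
    rw [← LinearEquiv.AssociatedPrimes.eq e]
    refine ⟨hq, ?_⟩
    rw [SkLift5.supportDim_localized_eq_height q (mem_support_of_mem_ass hq)] at hdim
    have hmin : ¬ IsMin (⟨⟨q, inferInstance⟩, mem_support_of_mem_ass hq⟩ : Module.support A M) := fun hm => by
      rw [Order.height_eq_zero.2 hm] at hdim
      exact absurd (WithBot.coe_le_coe.1 hdim : ((0 + 1 : ℕ) : ℕ∞) ≤ 0) (by simp)
    obtain ⟨⟨p', hp'⟩, hlt⟩ := not_isMin_iff.1 hmin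
    obtain ⟨p, hp, hpp'⟩ := Ideal.exists_minimalPrimes_le (Module.mem_support_iff_of_finite.1 hp')
    exact ⟨p, Module.associatedPrimes.minimalPrimes_annihilator_subset_associatedPrimes A M hp,
      lt_of_le_of_lt hpp' hlt⟩
  | succ d ih =>
    intro M _ _ _ hd hdim
    have hq : q ∉ associatedPrimes A M := fun h => by
      rw [(depth_eq_zero_iff_mem q M).2 h] at hd
      exact absurd hd.symm (by exact_mod_cast Nat.succ_ne_zero d)
    obtain ⟨t, htq, g₁, hg₁, htreg, ht⟩ := exists_regular q hq
    have h1 := Depth.idealDepth_localization_quotSMulTop q M (maximalIdeal (Localization.AtPrime q))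
      (by rw [← Localization.AtPrime.map_eq_maximalIdeal]; exact Ideal.mem_map_of_mem _ htq) htreg
    have hd' : LocCoh.depth (Localization.AtPrime q) (LocalizedModule q.primeCompl (QuotSMulTop t M)) = d := by
      have h2 : LocCoh.depth (Localization.AtPrime q) (LocalizedModule q.primeCompl (QuotSMulTop t M)) + 1 = (d : ℕ∞) + 1 := by
        refine h1.trans (hd.trans ?_)
        simp
      exact (ENat.add_left_injective_of_ne_top ENat.one_ne_top) h2
    have hdim' : ((d + 1 : ℕ) : WithBot ℕ∞) ≤
        Module.supportDim (Localization.AtPrime q) (LocalizedModule q.primeCompl (QuotSMulTop t M)) := by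
      refine SkLift5.le_of_add_one_le (le_trans (le_of_eq (by push_cast; rfl)) (hdim.trans
        (supportDim_quot_add_one q htq htreg).ge))
    obtain ⟨g₂, hg₂, rs, hlen, hrs, hqa, p, hp, hpq⟩ := ih (QuotSMulTop t M) hd' hdim'
    refine ⟨g₁ * g₂, fun h => (Ideal.IsPrime.mem_or_mem' h).elim hg₁ hg₂, t :: rs, by simp [hlen], fun g' hg' => ?_, ?_⟩
    · rw [List.map_cons, isWeaklyRegular_cons_iff]
      refine ⟨ht g' ((dvd_mul_right _ _).trans hg'), ?_⟩
      obtain ⟨e⟩ := nonempty_quotSMulTop_localized (Submonoid.powers g') M t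
      exact (e.isWeaklyRegular_congr _).2 (hrs g' ((dvd_mul_left _ _).trans hg'))
    · rw [LinearEquiv.AssociatedPrimes.eq (Submodule.quotOfListConsSMulTopEquivQuotSMulTopInner M t rs)]
      exact ⟨hqa, p, hp, hpq⟩

end Local

theorem hasSk_iff (k : ℕ) (A : Type u) [CommRing A] [IsNoetherianRing A]
    (M : Type u) [AddCommGroup M] [Module A M] [Module.Finite A M] :
    LocCoh.HasSk k A M ↔
      ∀ (g : A) (rs : List (Localization.Away g)), rs.length < k →
        RingTheory.Sequence.IsWeaklyRegular (LocalizedModule (Submonoid.powers g) M) rs →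
        ∀ p ∈ associatedPrimes (Localization.Away g)
            (LocalizedModule (Submonoid.powers g) M ⧸
              (Ideal.ofList rs • (⊤ : Submodule (Localization.Away g) (LocalizedModule (Submonoid.powers g) M)))),
          ∀ q ∈ associatedPrimes (Localization.Away g)
            (LocalizedModule (Submonoid.powers g) M ⧸
              (Ideal.ofList rs • (⊤ : Submodule (Localization.Away g) (LocalizedModule (Submonoid.powers g) M)))),
            p ≤ q → p = q := by
  constructor
  · intro h g rs hlen hreg p hp q hq hpq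
    haveI : IsNoetherianRing (Localization.Away g) := IsLocalization.isNoetherianRing (Submonoid.powers g) _ inferInstance
    haveI : Module.Finite (Localization.Away g) (LocalizedModule (Submonoid.powers g) M) :=
      Module.Finite.of_isLocalizedModule (Submonoid.powers g) (LocalizedModule.mkLinearMap (Submonoid.powers g) M)
    exact eq_of_hasSk _ (fun Q _ => (skCond_localized (Submonoid.powers g) k M Q).2 (h _)) rs hlen hreg hp hq hpq
  · intro h q _
    by_contra hcon
    rw [not_le, lt_min_iff] at hcon
    obtain ⟨hk, hdim⟩ := hcon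
    obtain ⟨d, hd⟩ : ∃ d : ℕ, LocCoh.depth (Localization.AtPrime q) (LocalizedModule q.primeCompl M) = d := by
      have h1 : LocCoh.depth (Localization.AtPrime q) (LocalizedModule q.primeCompl M) < (k : ℕ∞) := WithBot.coe_lt_coe.1 hk
      obtain ⟨d, hd⟩ := ENat.ne_top_iff_exists.1 h1.ne_top
      exact ⟨d, hd.symm⟩
    rw [hd] at hk hdim
    have hdk : d < k := by exact_mod_cast hk
    have hdim' : ((d + 1 : ℕ) : WithBot ℕ∞) ≤
        Module.supportDim (Localization.AtPrime q) (LocalizedModule q.primeCompl M) := by
      rcases DepthKer.dichotomy (Module.supportDim (Localization.AtPrime q) (LocalizedModule q.primeCompl M)) d with h' | h'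
      · exact absurd (lt_of_lt_of_le hdim h') (by simp)
      · exact h'
    obtain ⟨g, hg, rs, hlen, hrs, hqa, p, hpa, hpq⟩ := exists_sequence q d M hd hdim'
    let S := Submonoid.powers g
    haveI := hpa.isPrime
    have hdisj : ∀ a : Ideal A, a.IsPrime → a ≤ q → Disjoint (S : Set A) (a : Set A) := fun a ha haq =>
      Set.disjoint_left.2 fun x hx hx' => by
        obtain ⟨n, rfl⟩ := hx
        exact hg (haq (ha.mem_of_pow_mem n hx'))
    obtain ⟨e⟩ := nonempty_quot_localized S M rs
    have hmem : ∀ a : Ideal A, a ∈ associatedPrimes A (M ⧸ (Ideal.ofList rs • (⊤ : Submodule A M))) → a ≤ q →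
        a.map (algebraMap A (Localization S)) ∈ associatedPrimes (Localization S)
          (LocalizedModule S M ⧸ (Ideal.ofList (rs.map (algebraMap A (Localization S))) •
            (⊤ : Submodule (Localization S) (LocalizedModule S M)))) := fun a ha haq => by
      rw [LinearEquiv.AssociatedPrimes.eq e]
      refine Module.associatedPrimes.mem_associatedPrimes_of_comap_mem_associatedPrimes_of_isLocalizedModule
        S (LocalizedModule.mkLinearMap S _) _ ?_
      exact (congrArg (· ∈ associatedPrimes A _) (IsLocalization.comap_map_of_isPrime_disjoint S (Localization S) ha.isPrime (hdisj a ha.isPrime haq))).mpr ha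
    have heq := h g (rs.map (algebraMap A (Localization S))) (by simpa [hlen] using hdk) (hrs g dvd_rfl)
      _ (hmem p hpa hpq.le) _ (hmem q hqa le_rfl) (Ideal.map_mono hpq.le)
    have := congrArg (Ideal.comap (algebraMap A (Localization S))) heq
    exact hpq.ne (((IsLocalization.comap_map_of_isPrime_disjoint S (Localization S) ‹p.IsPrime› (hdisj p ‹_› hpq.le)).symm.trans
      this).trans (IsLocalization.comap_map_of_isPrime_disjoint S (Localization S) ‹q.IsPrime› (hdisj q ‹_› le_rfl)))

end GrothLib.SkAssPrimes
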